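import Cfsg.Agent.H162.GaussExcMain
import Cfsg.Agent.H928.Ore.Frame
import Cfsg.Agent.H777.Ore.Base

/-!
# The frame for one block of type `A` (S2443, S4171)

* `UJ_le`, `UNJ_le` : `U_J` and `U_J⁻` are in the images of the unitriangular groups;
* `allC_of_blk`, `inv4_of_blk` : commutators and products of four elements of square one from one class of the block.
-/

set_option autoImplicit false
set_option linter.unusedSectionVars false

namespace Cfsg.Agent.H85.Ore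

open CoxeterSystem Cfsg.Agent.ChevalleyStructure.CoxeterGeom Cfsg.Agent.Tits.Roots Cfsg.Agent.Tits.Core
  Cfsg.Agent.Nodes.Reps Cfsg.Agent.Nodes.BNOf Cfsg.Agent.Nodes.RGDLib Cfsg.Agent.Nodes.Bruhat
  Cfsg.Agent.Nodes.OppDec Cfsg.Agent.Nodes.LeviDec Cfsg.Agent.Nodes.KindChev Cfsg.Agent.Nodes.ChevCls
  Cfsg.Agent.OddHalf.NI.ModelChev
  Cfsg.Agent.H162.GaussDec Cfsg.Agent.H162.GaussLevi Cfsg.Agent.H162.GaussSL
  Cfsg.Agent.H162.GaussMain Cfsg.Agent.H162.GaussPQ Cfsg.Agent.H162.GaussExc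
open Cfsg.Lie Cfsg.Agent.ChevalleyStructure Cfsg.Agent.ChevalleyStructure.Elts
  Cfsg.Agent.ChevalleyStructure.RootVec Cfsg.Agent.ChevalleyStructure.NPerm
  Cfsg.Agent.ChevalleyStructure.CoxeterGeomTypes Cfsg.Agent.Nodes.RGDChev Cfsg.Agent.KFacts.RgdChevCoord
open Cfsg.Agent.TitsThree.KExcRT Cfsg.Agent.AGraded
open Cfsg.Agent.H162.GaussExcMain (ChkB ChkSub w7 w8 exists_hom_D)
open Cfsg.Agent.H928.Ore.Frame (NF LP)
open Cfsg.Agent.H777.Ore (IsC AllC I4 Inv4)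
open scoped MatrixGroups

universe u

/-! ### The frame for one block of type `A` -/

section

variable {D : ChevalleyDatum} {l : ℕ} {M : CoxeterMatrix (Fin l)} (hp : IsType D l M) {K : Type u} [Field K]
  {J : List (Fin l)} {e : Fin l → ℤ} {ω : List (Fin l)} {n : ℕ} {r : Fin (n + 2) → Fin (n + 2) → ℕ}
  (TB : TabB D l J e ω n r)
  {φ : Matrix.SpecialLinearGroup (Fin (n + 2)) K →* ↥(D.group K)} {s : Fin (n + 2) → Fin (n + 2) → K}
  (hs : ∀ a b, s a b ≠ 0)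
  (hφ : ∀ a b (hab : a ≠ b) c, φ (Matrix.SpecialLinearGroup.transvection hab c) = xc hp (vec D l (r a b)) (s a b * c))

include TB hs hφ

theorem UJ_le : UJ M.toCoxeterSystem hp.isCartan (XX D l K) {k | k ∈ J} ≤ (UT (n + 2) K).map φ :=
  RGD.Sup_le fun x hx => up_phi hp TB hs hφ x hx

theorem UNJ_le : UNJ M.toCoxeterSystem hp.isCartan (XX D l K) {k | k ∈ J} ≤ (LT (n + 2) K).map φ :=
  RGD.Sup_le fun x hx => by
    have := lo_phi hp TB hs hφ (-x) hx
    rwa [_root_.neg_neg] at this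

end

theorem nf_inv {Y : Type*} [Group Y] {V : Subgroup Y} {c : Y} (h : NF V c) : NF V c⁻¹ := by
  intro x hx h1
  refine h x hx ?_
  rw [inv_inv] at h1
  calc c * x * c⁻¹ = c * (c⁻¹ * x * c) * c⁻¹ := by rw [h1]
    _ = x := by group

/-- one class in the block -/
structure OneClass {D : ChevalleyDatum} {l : ℕ} {M : CoxeterMatrix (Fin l)} (hp : IsType D l M) (K : Type u) [Field K]
    (J : List (Fin l)) {N : ℕ} (φ : Matrix.SpecialLinearGroup (Fin N) K →* ↥(D.group K))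
    (c₀ : Matrix.SpecialLinearGroup (Fin N) K) : Prop where
  mf : ∀ L ∈ LT N K, ∀ U ∈ UT N K, ∃ g h : Matrix.SpecialLinearGroup (Fin N) K,
    L * U = (g * c₀ * g⁻¹) * (h * c₀⁻¹ * h⁻¹)
  nf : ∀ g : Matrix.SpecialLinearGroup (Fin N) K,
    NF (VJ M.toCoxeterSystem hp.isCartan (XX D l K) {k | k ∈ J}) (φ (g * c₀ * g⁻¹))
  nfN : ∀ g : Matrix.SpecialLinearGroup (Fin N) K,
    NF (VNJ M.toCoxeterSystem hp.isCartan (XX D l K) {k | k ∈ J}) (φ (g * c₀ * g⁻¹))

section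

variable {D : ChevalleyDatum} {l : ℕ} {M : CoxeterMatrix (Fin l)} (hp : IsType D l M) {K : Type u} [Field K] [Finite K]
  (hl : 0 < l) (hG : IsSimpleGroup ↥(D.group K) ∧ ¬ IsMulCommutative ↥(D.group K))
  (hM : ∀ J : Finset (Fin l), J = ∅ ∨ J = Finset.univ ∨ ∃ a ∈ J, ∃ b, b ∉ J ∧ M a b ≠ 2)
  {J : List (Fin l)} {e : Fin l → ℤ} {ω : List (Fin l)} {n : ℕ} {r : Fin (n + 2) → Fin (n + 2) → ℕ}
  (TB : TabB D l J e ω n r)
  {φ : Matrix.SpecialLinearGroup (Fin (n + 2)) K →* ↥(D.group K)} {s : Fin (n + 2) → Fin (n + 2) → K}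
  (hs : ∀ a b, s a b ≠ 0)
  (hφ : ∀ a b (hab : a ≠ b) c, φ (Matrix.SpecialLinearGroup.transvection hab c) = xc hp (vec D l (r a b)) (s a b * c))
  {c₀ : Matrix.SpecialLinearGroup (Fin (n + 2)) K} (hc : OneClass hp K J φ c₀)

include TB hs hφ hc in
/-- the pairs of the Levi subgroup -/
theorem levi_pairs {v : ↥(D.group K)} (hv : v ∈ UNJ M.toCoxeterSystem hp.isCartan (XX D l K) {k | k ∈ J})
    {w : ↥(D.group K)} (hw : w ∈ UJ M.toCoxeterSystem hp.isCartan (XX D l K) {k | k ∈ J}) :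
    ∃ g h : Matrix.SpecialLinearGroup (Fin (n + 2)) K,
      v * w = φ (g * c₀ * g⁻¹) * φ (h * c₀⁻¹ * h⁻¹) ∧
      LP M.toCoxeterSystem hp.isCartan (TT D K) (XX D l K) {k | k ∈ J} (φ (g * c₀ * g⁻¹)) (φ (h * c₀⁻¹ * h⁻¹)) := by
  obtain ⟨L, hL, rfl⟩ := UNJ_le hp TB hs hφ hv
  obtain ⟨U, hU, rfl⟩ := UJ_le hp TB hs hφ hw
  obtain ⟨g, h, e1⟩ := hc.mf L hL U hU
  refine ⟨g, h, by rw [← map_mul, ← map_mul, e1], phi_mem hp TB hφ _, phi_mem hp TB hφ _, hc.nfN g, ?_⟩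
  have h1 : h * c₀⁻¹ * h⁻¹ = (h * c₀ * h⁻¹)⁻¹ := by group
  rw [h1, map_inv]
  exact nf_inv (hc.nf h)

include hp in
theorem one_of_core (hl : 0 < l) (hG : IsSimpleGroup ↥(D.group K)) {g : ↥(D.group K)}
    (hg : g ∈ (RGD.B M.toCoxeterSystem hp.isCartan (TT D K) (XX D l K)).normalCore) : g = 1 := by
  obtain ⟨p, hpc⟩ := CharP.exists K
  have := Fintype.ofFinite K
  have : Fact p.Prime := ⟨(CharP.char_is_prime_or_zero K p).resolve_right (CharP.char_ne_zero_of_finite K p)⟩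
  have := finite_W hp M.toCoxeterSystem
  have : Nonempty (Fin l) := ⟨⟨0, hl⟩⟩
  have R := rgd (K := K) hp M.toCoxeterSystem p
  have h1 := core_le_ker R (MonoidHom.id ↥(D.group K)) Function.surjective_id (fun x hx => by
    rw [MonoidHom.mem_ker] at hx
    change x = 1 at hx
    rw [hx]
    exact one_mem _) hg
  rw [MonoidHom.mem_ker] at h1
  exact h1

include hl hG hM TB hs hφ hc in
/-- **Every element is a commutator.** -/
theorem allC_of_blk : AllC ↥(D.group K) := by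
  intro g
  obtain ⟨p, hpc⟩ := CharP.exists K
  have := Fintype.ofFinite K
  have : Fact p.Prime := ⟨(CharP.char_is_prime_or_zero K p).resolve_right (CharP.char_ne_zero_of_finite K p)⟩
  have := finite_W hp M.toCoxeterSystem
  have : Nonempty (Fin l) := ⟨⟨0, hl⟩⟩
  by_cases hg : g ∈ (RGD.B M.toCoxeterSystem hp.isCartan (TT D K) (XX D l K)).normalCore
  · rw [one_of_core hp hl hG.1 hg]
    exact Cfsg.Agent.H777.Ore.isC_one
  · refine Cfsg.Agent.H928.Ore.Frame.comm (rgd (K := K) hp M.toCoxeterSystem p) (G1_eq_top hp _) (coord hp)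
      (Cfsg.Agent.Nodes.ChevChart.irr_of hM) (J := {k | k ∈ J}) (fun v hv w hw => ?_) hg
    obtain ⟨x, y, h1, h2⟩ := levi_pairs hp TB hs hφ hc hv hw
    refine ⟨_, _, h1, h2, φ (y * x⁻¹), ?_⟩
    rw [← map_inv, ← map_mul, ← map_inv, ← map_mul]
    congr 1
    group

include hl hG hM TB hs hφ hc in
/-- **Every element is a product of four elements of square one.** -/
theorem inv4_of_blk (hr : ∃ t : ↥(D.group K), t * t = 1 ∧ t * φ c₀ * t⁻¹ = (φ c₀)⁻¹) : Inv4 ↥(D.group K) := by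
  intro g
  obtain ⟨p, hpc⟩ := CharP.exists K
  have := Fintype.ofFinite K
  have : Fact p.Prime := ⟨(CharP.char_is_prime_or_zero K p).resolve_right (CharP.char_ne_zero_of_finite K p)⟩
  have := finite_W hp M.toCoxeterSystem
  have : Nonempty (Fin l) := ⟨⟨0, hl⟩⟩
  by_cases hg : g ∈ (RGD.B M.toCoxeterSystem hp.isCartan (TT D K) (XX D l K)).normalCore
  · rw [one_of_core hp hl hG.1 hg]
    exact ⟨1, 1, 1, 1, by simp⟩
  · obtain ⟨t, ht, htc⟩ := hr
    have key : ∀ c x : ↥(D.group K), t * c * t⁻¹ = c⁻¹ →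
        ∃ a b : ↥(D.group K), a ^ 2 = 1 ∧ b ^ 2 = 1 ∧ x * c * x⁻¹ = a * b := by
      intro c x hc'
      have h0 : t⁻¹ = t := inv_eq_of_mul_eq_one_left ht
      rw [h0] at hc'
      have h1 : (t * c) * (t * c) = 1 := by
        calc (t * c) * (t * c) = (t * c * t) * c := by group
          _ = 1 := by rw [hc', inv_mul_cancel]
      refine ⟨x * t * x⁻¹, x * (t * c) * x⁻¹, ?_, ?_, ?_⟩
      · rw [conj_pow, pow_two, ht, mul_one, mul_inv_cancel]
      · rw [conj_pow, pow_two, h1, mul_one, mul_inv_cancel]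
      · calc x * c * x⁻¹ = x * 1 * c * x⁻¹ := by group
          _ = _ := by rw [← ht]; group
    obtain ⟨a, b, c, d, h1, h2, h3, h4, h5⟩ := Cfsg.Agent.H928.Ore.Frame.four (rgd (K := K) hp M.toCoxeterSystem p)
      (G1_eq_top hp _) (coord hp) (Cfsg.Agent.Nodes.ChevChart.irr_of hM) (J := {k | k ∈ J}) (fun v hv w hw => by
        obtain ⟨x, y, h1, h2⟩ := levi_pairs hp TB hs hφ hc hv hw
        refine ⟨_, _, h1, h2, ?_, ?_⟩
        · have h3 := key (φ c₀) (φ x) htc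
          rwa [← map_inv, ← map_mul, ← map_mul] at h3
        · have h3 := key (φ c₀)⁻¹ (φ y) (by rw [inv_inv]; calc
            t * (φ c₀)⁻¹ * t⁻¹ = (t * φ c₀ * t⁻¹)⁻¹ := by group
            _ = φ c₀ := by rw [htc, inv_inv])
          rwa [← map_inv, ← map_inv, ← map_mul, ← map_mul] at h3) hg
    exact ⟨a, b, c, d, by rw [← pow_two, h1], by rw [← pow_two, h2], by rw [← pow_two, h3], by rw [← pow_two, h4], h5⟩

end

end Cfsg.Agent.H85.Ore
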