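import Cfsg.Agent.H85.Ore.Phi
import Cfsg.Agent.H224.Ore.Zeta

/-!
# The weights of the roots outside the block (S2443, S4171)

* `wt D j q b = ∑_{a ≥ b} ⟨q, α_{j a}⟩` : the exponent of `λ_b` in the value of the root `q`;
* `prod_wt` : `∏_a (∏_{b ≤ a} λ_b)^{⟨q, α_{j a}⟩} = ∏_b λ_b^{wt q b}`;
* `chkW8`, `chkW7` : the weights outside `A_7` in `E_8`, `A_6` in `E_7` take two consecutive values;
* `ne_one` : the value is not `1` for the eigenvalues of `Zet`.
-/

set_option autoImplicit false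
set_option linter.unusedSectionVars false

namespace Cfsg.Agent.H85.Ore

open CoxeterSystem Cfsg.Agent.ChevalleyStructure.CoxeterGeom Cfsg.Agent.Tits.Roots Cfsg.Agent.Tits.Core
  Cfsg.Agent.Nodes.Reps Cfsg.Agent.Nodes.BNOf Cfsg.Agent.Nodes.RGDLib Cfsg.Agent.Nodes.Bruhat
open Cfsg.Lie Cfsg.Agent.ChevalleyStructure Cfsg.Agent.ChevalleyStructure.Elts
  Cfsg.Agent.ChevalleyStructure.RootVec Cfsg.Agent.ChevalleyStructure.NPerm
  Cfsg.Agent.ChevalleyStructure.CoxeterGeomTypes Cfsg.Agent.Nodes.RGDChev Cfsg.Agent.KFacts.RgdChevCoord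

/-- the weights of a root -/
def wt (D : ChevalleyDatum) {l n : ℕ} (j : Fin (n + 1) → Fin l) (q : ℕ) (b : Fin (n + 2)) : ℤ :=
  ∑ a : Fin (n + 1), if b ≤ a.castSucc then D.cartan (j a) q else 0

/-- the table of the weights -/
def ChkW (D : ChevalleyDatum) (l : ℕ) (J : List (Fin l)) (n : ℕ) (j : Fin (n + 1) → Fin l) : Prop :=
  ∀ q < D.nroots, (∃ k : Fin l, k ∉ J ∧ vec D l q k ≠ 0) →
    ((∀ b, wt D j q b = 0 ∨ wt D j q b = 1) ∧ ∃ b, wt D j q b = 1) ∨
    ((∀ b, wt D j q b = -1 ∨ wt D j q b = 0) ∧ ∃ b, wt D j q b = -1)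

instance (D : ChevalleyDatum) (l : ℕ) (J : List (Fin l)) (n : ℕ) (j : Fin (n + 1) → Fin l) :
    Decidable (ChkW D l J n j) := by
  unfold ChkW
  refine @Nat.decidableBallLT _ _ fun q _ => ?_
  infer_instance

/-- the simple roots of the block of `E_8` -/
abbrev j8 : Fin 7 → Fin 8 := ![0, 2, 3, 4, 5, 6, 7]

/-- the simple roots of the block of `E_7` -/
abbrev j7 : Fin 6 → Fin 7 := ![0, 2, 3, 4, 5, 6]

theorem chkW8 : ChkW chevE8 8 J8 6 j8 := by decide +kernel

theorem chkW7 : ChkW chevE7 7 J7 5 j7 := by decide +kernel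

theorem r8_simple : ∀ a : Fin 7, r8 a.castSucc a.succ = chevE8.simple (j8 a) := by decide +kernel

theorem r7_simple : ∀ a : Fin 6, r7 a.castSucc a.succ = chevE7.simple (j7 a) := by decide +kernel

section

variable {D : ChevalleyDatum} {l n : ℕ} {j : Fin (n + 1) → Fin l}

theorem wt_last (q : ℕ) : wt D j q (Fin.last (n + 1)) = 0 := by
  unfold wt
  refine Finset.sum_eq_zero fun a _ => ?_
  rw [if_neg (not_le.2 (Fin.castSucc_lt_last a))]

theorem prod_zpow' {K' : Type*} [Field K'] {x : K'} (hx : x ≠ 0) {ι : Type*} (s : Finset ι) (f : ι → ℤ) :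
    ∏ i ∈ s, x ^ f i = x ^ ∑ i ∈ s, f i := by
  classical
  induction s using Finset.induction_on with
  | empty => simp
  | insert a s ha ih => rw [Finset.prod_insert ha, Finset.sum_insert ha, zpow_add₀ hx, ih]

theorem prod_wt {K' : Type*} [Field K'] {lam : Fin (n + 2) → K'} (h0 : ∀ a, lam a ≠ 0) (q : ℕ) :
    ∏ a : Fin (n + 1), (∏ b ∈ Finset.univ.filter (fun b : Fin (n + 2) => b ≤ a.castSucc), lam b) ^ D.cartan (j a) q =
      ∏ b, lam b ^ wt D j q b := by
  have h1 : ∀ a : Fin (n + 1),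
      (∏ b ∈ Finset.univ.filter (fun b : Fin (n + 2) => b ≤ a.castSucc), lam b) ^ D.cartan (j a) q =
        ∏ b, lam b ^ (if b ≤ a.castSucc then D.cartan (j a) q else 0) := by
    intro a
    rw [← Finset.prod_zpow, Finset.prod_filter]
    refine Finset.prod_congr rfl fun b _ => ?_
    split_ifs
    · rfl
    · rw [zpow_zero]
  rw [Finset.prod_congr rfl fun a _ => h1 a, Finset.prod_comm]
  refine Finset.prod_congr rfl fun b _ => ?_
  rw [prod_zpow' (h0 b)]
  rfl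

open Cfsg.Agent.H224.Ore.Zeta in
/-- **The value of a root outside the block is not `1`.** -/
theorem ne_one' {K K' : Type*} [Field K] [Field K'] {i : K →+* K'} {ν : K} {p : Polynomial K}
    {lam : Fin (n + 2) → K'} (H : Zet i (n + 1) ν p lam) {J : List (Fin l)} (hW : ChkW D l J n j) {q : ℕ}
    (hq : q < D.nroots) (hk : ∃ k : Fin l, k ∉ J ∧ vec D l q k ≠ 0) : ∏ b, lam b ^ wt D j q b ≠ 1 := by
  have hl := wt_last (D := D) (j := j) q
  rcases hW q hq hk with ⟨h, b, hb⟩ | ⟨h, b, hb⟩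
  · exact H.zprod (wt D j q) 0 (fun a => by simpa using h a) ⟨_, hl⟩ ⟨b, by rw [hb]; norm_num⟩
  · exact H.zprod (wt D j q) (-1) (fun a => by simpa using h a) ⟨b, hb⟩ ⟨_, by rw [hl]; norm_num⟩

open Cfsg.Agent.H224.Ore.Zeta in
theorem ne_one {K K' : Type*} [Field K] [Field K'] {i : K →+* K'} {ν : K} {p : Polynomial K}
    {lam : Fin (n + 2) → K'} (H : Zet i (n + 1) ν p lam) {J : List (Fin l)} (hW : ChkW D l J n j) {q : ℕ}
    (hq : q < D.nroots) (hk : ∃ k : Fin l, k ∉ J ∧ vec D l q k ≠ 0) :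
    ∏ a : Fin (n + 1), (∏ b ∈ Finset.univ.filter (fun b : Fin (n + 2) => b ≤ a.castSucc), lam b) ^ D.cartan (j a) q ≠
      1 := by
  rw [prod_wt H.ne0]
  exact ne_one' H hW hq hk

end

end Cfsg.Agent.H85.Ore
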