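import Cfsg.Agent.H85.Ore.Blk
import Cfsg.Agent.H85.Ore.Wt
import Cfsg.Agent.H150.MF.Big
import Cfsg.Agent.H934.MF.Diag
import Cfsg.Agent.H335.Sr.Chev
import Cfsg.Agent.H335.Sr.SyCls
import Cfsg.Agent.H482.Ore.Block

/-!
# `E_8(q)`, `q ≥ 3` (S2443, S4171)
-/

set_option autoImplicit false
set_option linter.unusedSectionVars false

namespace Cfsg.Agent.H85.Ore

open CoxeterSystem Cfsg.Agent.ChevalleyStructure.CoxeterGeom Cfsg.Agent.Tits.Roots Cfsg.Agent.Tits.Core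
  Cfsg.Agent.Nodes.Reps Cfsg.Agent.Nodes.BNOf Cfsg.Agent.Nodes.RGDLib Cfsg.Agent.Nodes.Bruhat
  Cfsg.Agent.Nodes.OppDec Cfsg.Agent.Nodes.LeviDec Cfsg.Agent.Nodes.KindChev Cfsg.Agent.Nodes.ChevCls
  Cfsg.Agent.OddHalf.NI.ModelChev
  Cfsg.Agent.H162.GaussDec Cfsg.Agent.H162.GaussLevi Cfsg.Agent.H162.GaussSL
  Cfsg.Agent.H162.GaussMain Cfsg.Agent.H162.GaussPQ Cfsg.Agent.H162.GaussExc
open Cfsg.Lie Cfsg.Agent.ChevalleyStructure Cfsg.Agent.ChevalleyStructure.Elts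
  Cfsg.Agent.ChevalleyStructure.RootVec Cfsg.Agent.ChevalleyStructure.NPerm
  Cfsg.Agent.ChevalleyStructure.CoxeterGeomTypes Cfsg.Agent.Nodes.RGDChev Cfsg.Agent.KFacts.RgdChevCoord
open Cfsg.Agent.H928.Ore.Frame (NF LP)
open Cfsg.Agent.H777.Ore (IsC AllC I4 Inv4)
open Cfsg.Agent.H224.Ore.Zeta (Zet exists_zet)
open Polynomial (X C)

universe u

/-- the conjugates have the same characteristic polynomial -/
theorem charpoly_conj {K : Type*} [Field K] {N : ℕ} (g c : Matrix.SpecialLinearGroup (Fin N) K) :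
    (g * c * g⁻¹ : Matrix.SpecialLinearGroup (Fin N) K).1.charpoly = c.1.charpoly := by
  have h1 : (g * c * g⁻¹ : Matrix.SpecialLinearGroup (Fin N) K).1 = (g * c).1 * (g⁻¹).1 :=
    Matrix.SpecialLinearGroup.coe_mul _ _
  have h2 : (g⁻¹).1 * (g * c).1 = c.1 := by
    have h3 := Matrix.SpecialLinearGroup.coe_mul g⁻¹ (g * c)
    rw [inv_mul_cancel_left] at h3
    exact h3.symm
  rw [h1, Matrix.charpoly_mul_comm, h2]

section

variable {D : ChevalleyDatum} {l : ℕ} {M : CoxeterMatrix (Fin l)} (hp : IsType D l M) {K : Type u} [Field K] [Finite K]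
  (hq : 3 ≤ Nat.card K) {J : List (Fin l)} {n : ℕ}
  {φ : Matrix.SpecialLinearGroup (Fin (n + 2)) K →* ↥(D.group K)}

include hq in
/-- one class from the eigenvalues of `Zet` and the statement on fixed points -/
theorem exists_oneClass (hn : 1 ≤ n)
    (hnf : ∀ (K' : Type) (_ : Field K') (_ : Finite K') (i : K →+* K') (ν : K) (p : Polynomial K)
      (lam : Fin (n + 2) → K') (_ : Zet i (n + 1) ν p lam) (X : Matrix.SpecialLinearGroup (Fin (n + 2)) K),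
      (∃ g : GL (Fin (n + 2)) K', X.1.map i = g.val * Matrix.diagonal lam * g⁻¹.val) →
      NF (VJ M.toCoxeterSystem hp.isCartan (XX D l K) {k | k ∈ J}) (φ X) ∧
        NF (VNJ M.toCoxeterSystem hp.isCartan (XX D l K) {k | k ∈ J}) (φ X)) :
    ∃ (c₀ : Matrix.SpecialLinearGroup (Fin (n + 2)) K) (ν : K) (p : Polynomial K), Irreducible p ∧ p.eval ν ≠ 0 ∧
      c₀.1.charpoly = (X - C ν) * p ∧ Cfsg.Agent.H150.MF.NiceM c₀.1 ∧ OneClass hp K J φ c₀ := by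
  obtain ⟨K', iF, iK, i, ν, p, lam, Z⟩ := exists_zet K hq (m := n + 1) (by omega)
  obtain ⟨c₀, h1, h2, h3⟩ := Cfsg.Agent.H150.MF.mf_poly hq (n := n + 2) (by omega) Z.monic Z.deg Z.c0 Z.nu
  have key : ∀ g : Matrix.SpecialLinearGroup (Fin (n + 2)) K,
      NF (VJ M.toCoxeterSystem hp.isCartan (XX D l K) {k | k ∈ J}) (φ (g * c₀ * g⁻¹)) ∧
        NF (VNJ M.toCoxeterSystem hp.isCartan (XX D l K) {k | k ∈ J}) (φ (g * c₀ * g⁻¹)) := by
    intro g
    refine hnf K' iF iK i ν p lam Z _ ?_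
    exact Cfsg.Agent.H934.MF.diag_map i _ Z.inj (by rw [charpoly_conj, h1]; exact Z.split)
  exact ⟨c₀, ν, p, Z.irr, Z.nu, h1, h2, h3, fun g => (key g).1, fun g => (key g).2⟩

include hp in
omit hq in
/-- strong reality in the block, `w_0 = -1` -/
theorem exists_inv {ω : List (Fin l)}
    (hω : ∀ j : Fin l, Cfsg.Agent.H162.GaussExc.fr D ω (D.simple j) = D.neg (D.simple j))
    {r : Fin (n + 2) → Fin (n + 2) → ℕ} (hr : ∀ a b, a ≠ b → r a b < D.nroots)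
    (hneg : ∀ a b, a ≠ b → r b a = D.neg (r a b)) {s : Fin (n + 2) → Fin (n + 2) → K}
    (hs : ∀ a b, a ≠ b → s a b * s a b = 1)
    (hφ : ∀ a b (hab : a ≠ b) c, φ (Matrix.SpecialLinearGroup.transvection hab c) =
      xc hp (vec D l (r a b)) (s a b * c)) {c₀ : Matrix.SpecialLinearGroup (Fin (n + 2)) K}
    (hc : Cfsg.Agent.H335.Sr.Sy c₀.1) : ∃ t : ↥(D.group K), t * t = 1 ∧ t * φ c₀ * t⁻¹ = (φ c₀)⁻¹ := by
  obtain ⟨p, hpc⟩ := CharP.exists K
  have := Fintype.ofFinite K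
  have : Fact p.Prime := ⟨(CharP.char_is_prime_or_zero K p).resolve_right (CharP.char_ne_zero_of_finite K p)⟩
  have := finite_W hp M.toCoxeterSystem
  have hw := rep_neg hp hω
  obtain ⟨ε, z, Z⟩ := Cfsg.Agent.H335.Sr.exists_ZD_neg hp M.toCoxeterSystem (rgd (K := K) hp M.toCoxeterSystem p).nsys hw
  obtain ⟨S, h1, h2⟩ := Z.inv_block hr hneg (fun a b _ => hw _) hs hφ (fun i => rfl) (s₀ := 1) (one_mem _)
    (fun i => rfl) (fun A => by rw [one_mul, mul_one]) hc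
  rw [one_mul] at h2
  exact ⟨_, h1, h2⟩

end

section

variable {D : ChevalleyDatum} {l : ℕ} {M : CoxeterMatrix (Fin l)} (hp : IsType D l M) {K : Type u} [Field K] [Finite K]
  (hq : 3 ≤ Nat.card K) {J : List (Fin l)} {n : ℕ} {r : Fin (n + 2) → Fin (n + 2) → ℕ} {j : Fin (n + 1) → Fin l}

include hq in
/-- **The class of the block.** -/
theorem exists_class (hn : 1 ≤ n) (hW : ChkW D l J n j)
    (hphi' : ∀ (F : Type) [Field F], ∃ φ : Matrix.SpecialLinearGroup (Fin (n + 2)) F →* ↥(D.group F),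
      ∀ a b (hab : a ≠ b) c, φ (Matrix.SpecialLinearGroup.transvection hab c) =
        xc hp (vec D l (r a b)) (((-1 : ℤ) : F) * c))
    (hr : ∀ a b, a ≠ b → r a b < D.nroots) (hrJ : ∀ a b, a ≠ b → ∀ k, k ∉ J → vec D l (r a b) k = 0)
    (hneg : ∀ a b, a ≠ b → r b a = D.neg (r a b)) (hj : ∀ a : Fin (n + 1), r a.castSucc a.succ = D.simple (j a))
    {φ : Matrix.SpecialLinearGroup (Fin (n + 2)) K →* ↥(D.group K)}
    (hφ : ∀ a b (hab : a ≠ b) c, φ (Matrix.SpecialLinearGroup.transvection hab c) =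
      xc hp (vec D l (r a b)) (((-1 : ℤ) : K) * c)) :
    ∃ (c₀ : Matrix.SpecialLinearGroup (Fin (n + 2)) K) (ν : K) (p : Polynomial K), Irreducible p ∧ p.eval ν ≠ 0 ∧
      c₀.1.charpoly = (X - C ν) * p ∧ Cfsg.Agent.H150.MF.NiceM c₀.1 ∧ OneClass hp K J φ c₀ := by
  refine exists_oneClass hp hq hn fun K' iF iK i ν p lam Z x hx => ?_
  obtain ⟨g, hg⟩ := hx
  obtain ⟨φ', hφ'⟩ := hphi' K'
  obtain ⟨ch, hch⟩ := CharP.exists K'
  have := Fintype.ofFinite K'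
  have : Fact ch.Prime := ⟨(CharP.char_is_prime_or_zero K' ch).resolve_right (CharP.char_ne_zero_of_finite K' ch)⟩
  have B : Cfsg.Agent.H482.Ore.Fix.Bk hp i {k | k ∈ J} n r j φ φ' (fun _ _ => ((-1 : ℤ) : K)) :=
    { simp := ⟨hj, fun a => by rw [← hj a]; exact hneg _ _ (cs_ne a)⟩
      rlt := hr
      rJ := hrJ
      hφ := hφ
      hφ' := fun a b hab c => by rw [hφ' a b hab c, map_intCast]
      ss := fun a => by simp }
  exact Cfsg.Agent.H482.Ore.Fix.nf_block' hp ch B (g := g) hg fun q hq hk => ne_one' Z hW hq hk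

end

/-! ### `E_8` -/

section

variable (K : Type u) [Field K] [Finite K] (hq : 3 ≤ Nat.card K)

include hq in
theorem exists_class8 {φ : Matrix.SpecialLinearGroup (Fin 8) K →* ↥(chevE8.group K)}
    (hφ : ∀ a b (hab : a ≠ b) c, φ (Matrix.SpecialLinearGroup.transvection hab c) =
      xc Cfsg.Agent.Nodes.KindE.isType8 (vec chevE8 8 (r8 a b)) (((-1 : ℤ) : K) * c)) :
    ∃ (c₀ : Matrix.SpecialLinearGroup (Fin 8) K) (ν : K) (p : Polynomial K), Irreducible p ∧ p.eval ν ≠ 0 ∧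
      c₀.1.charpoly = (X - C ν) * p ∧ Cfsg.Agent.H150.MF.NiceM c₀.1 ∧ OneClass Cfsg.Agent.Nodes.KindE.isType8 K J8 φ c₀ :=
  exists_class (n := 6) (j := j8) Cfsg.Agent.Nodes.KindE.isType8 hq (by norm_num) chkW8
    (fun F _ => exists_phi8 F) ch8a.1 ch8a.2 rt8.2.2.2 r8_simple hφ

include hq in
/-- **Ore for `E_8(q)`, `q ≥ 3`.** -/
theorem allC_E8 : AllC ↥(chevE8.group K) := by
  obtain ⟨φ, hφ⟩ := exists_phi8 K
  obtain ⟨c₀, ν, p, -, -, -, -, hc⟩ := exists_class8 K hq hφ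
  exact allC_of_blk Cfsg.Agent.Nodes.KindE.isType8 (by norm_num) (Cfsg.Agent.S1054.result chevE8 (by simp))
    Cfsg.Agent.Nodes.ChevChart.irr8 tab8 (s := fun _ _ => ((-1 : ℤ) : K)) (fun _ _ => by simp) hφ hc

include hq in
/-- **Four involutions for `E_8(q)`, `q ≥ 3`.** -/
theorem inv4_E8 : Inv4 ↥(chevE8.group K) := by
  obtain ⟨φ, hφ⟩ := exists_phi8 K
  obtain ⟨c₀, ν, p, -, -, -, h3, hc⟩ := exists_class8 K hq hφ
  exact inv4_of_blk Cfsg.Agent.Nodes.KindE.isType8 (by norm_num) (Cfsg.Agent.S1054.result chevE8 (by simp))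
    Cfsg.Agent.Nodes.ChevChart.irr8 tab8 (s := fun _ _ => ((-1 : ℤ) : K)) (fun _ _ => by simp) hφ hc
    (exists_inv Cfsg.Agent.Nodes.KindE.isType8 chw8 ch8a.1 rt8.2.2.2 (s := fun _ _ => ((-1 : ℤ) : K))
      (fun _ _ _ => by simp) hφ (Cfsg.Agent.H335.Sr.Sy.of_nice h3))

end

/-! ### `E_7` -/

section

variable (K : Type u) [Field K] [Finite K] (hq : 3 ≤ Nat.card K)

include hq in
theorem exists_class7 {φ : Matrix.SpecialLinearGroup (Fin 7) K →* ↥(chevE7.group K)}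
    (hφ : ∀ a b (hab : a ≠ b) c, φ (Matrix.SpecialLinearGroup.transvection hab c) =
      xc Cfsg.Agent.Nodes.KindE.isType7 (vec chevE7 7 (r7 a b)) (((-1 : ℤ) : K) * c)) :
    ∃ (c₀ : Matrix.SpecialLinearGroup (Fin 7) K) (ν : K) (p : Polynomial K), Irreducible p ∧ p.eval ν ≠ 0 ∧
      c₀.1.charpoly = (X - C ν) * p ∧ Cfsg.Agent.H150.MF.NiceM c₀.1 ∧ OneClass Cfsg.Agent.Nodes.KindE.isType7 K J7 φ c₀ :=
  exists_class (n := 5) (j := j7) Cfsg.Agent.Nodes.KindE.isType7 hq (by norm_num) chkW7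
    (fun F _ => exists_phi7 F) ch7a.1 ch7a.2 rt7.2.2.2 r7_simple hφ

include hq in
/-- **Ore for `E_7(q)`, `q ≥ 3`.** -/
theorem allC_E7 : AllC ↥(chevE7.group K) := by
  obtain ⟨φ, hφ⟩ := exists_phi7 K
  obtain ⟨c₀, ν, p, -, -, -, -, hc⟩ := exists_class7 K hq hφ
  exact allC_of_blk Cfsg.Agent.Nodes.KindE.isType7 (by norm_num) (Cfsg.Agent.S1054.result chevE7 (by simp))
    Cfsg.Agent.Nodes.ChevChart.irr7 tab7 (s := fun _ _ => ((-1 : ℤ) : K)) (fun _ _ => by simp) hφ hc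

include hq in
/-- **Four involutions for `E_7(q)`, `q ≥ 3`.** -/
theorem inv4_E7 : Inv4 ↥(chevE7.group K) := by
  obtain ⟨φ, hφ⟩ := exists_phi7 K
  obtain ⟨c₀, ν, p, -, -, -, h3, hc⟩ := exists_class7 K hq hφ
  exact inv4_of_blk Cfsg.Agent.Nodes.KindE.isType7 (by norm_num) (Cfsg.Agent.S1054.result chevE7 (by simp))
    Cfsg.Agent.Nodes.ChevChart.irr7 tab7 (s := fun _ _ => ((-1 : ℤ) : K)) (fun _ _ => by simp) hφ hc
    (exists_inv Cfsg.Agent.Nodes.KindE.isType7 chw7 ch7a.1 rt7.2.2.2 (s := fun _ _ => ((-1 : ℤ) : K))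
      (fun _ _ _ => by simp) hφ (Cfsg.Agent.H335.Sr.Sy.of_nice h3))

end

end Cfsg.Agent.H85.Ore
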