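import Cfsg.Agent.H162.GaussExcMain
import Cfsg.Agent.H928.Ore.Frame
import Cfsg.Agent.H777.Ore.Base

/-!
# The block of type `A_7` in `E_8` and the block of type `A_6` in `E_7` (S2443, S4171)

* `exists_phi8`, `exists_phi7` : the homomorphisms from `SL_8`, `SL_7` (every field), tables `r8`, `r7`;
* `tab8`, `tab7` : the tables `TabB` of the blocks;
-/

set_option autoImplicit false
set_option linter.unusedSectionVars false

namespace Cfsg.Agent.H85.Ore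

open CoxeterSystem Cfsg.Agent.ChevalleyStructure.CoxeterGeom Cfsg.Agent.Tits.Roots Cfsg.Agent.Tits.Core
  Cfsg.Agent.Nodes.Reps Cfsg.Agent.Nodes.BNOf Cfsg.Agent.Nodes.RGDLib Cfsg.Agent.Nodes.Bruhat
  Cfsg.Agent.Nodes.OppDec Cfsg.Agent.Nodes.LeviDec Cfsg.Agent.Nodes.KindChev Cfsg.Agent.Nodes.ChevCls
  Cfsg.Agent.OddHalf.NI.ModelChev
  Cfsg.Agent.H162.GaussDec Cfsg.Agent.H162.GaussLevi Cfsg.Agent.H162.GaussSL
  Cfsg.Agent.H162.GaussMain Cfsg.Agent.H162.GaussPQ Cfsg.Agent.H162.GaussExc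
open Cfsg.Lie Cfsg.Agent.ChevalleyStructure Cfsg.Agent.ChevalleyStructure.Elts
  Cfsg.Agent.ChevalleyStructure.RootVec Cfsg.Agent.ChevalleyStructure.NPerm
  Cfsg.Agent.ChevalleyStructure.CoxeterGeomTypes Cfsg.Agent.Nodes.RGDChev Cfsg.Agent.KFacts.RgdChevCoord
open Cfsg.Agent.TitsThree.KExcRT Cfsg.Agent.AGraded
open Cfsg.Agent.H162.GaussExcMain (ChkB ChkSub w7 w8 exists_hom_D)
open Cfsg.Agent.H928.Ore.Frame (NF LP)
open Cfsg.Agent.H777.Ore (IsC AllC I4 Inv4)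
open scoped MatrixGroups

universe u

/-! ### The tables -/

/-- the roots of the block of type `A_7` of `E_8` (nodes `0, 2, 3, 4, 5, 6, 7`) -/
def r8 : Fin 8 → Fin 8 → ℕ := ![![0, 162, 163, 164, 165, 166, 167, 168], ![77, 0, 135, 136, 137, 138, 139, 140],
  ![76, 104, 0, 130, 131, 132, 133, 134], ![75, 103, 109, 0, 126, 127, 128, 129], ![74, 102, 108, 113, 0, 123, 124, 125],
  ![73, 101, 107, 112, 116, 0, 121, 122], ![72, 100, 106, 111, 115, 118, 0, 120], ![71, 99, 105, 110, 114, 117, 119, 0]]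

/-- the nodes of the block of `E_8` -/
abbrev J8 : List (Fin 8) := [0, 2, 3, 4, 5, 6, 7]

/-- the cocharacter of `E_8` -/
def e8 : Fin 8 → ℤ := ![4, 5, 7, 10, 8, 6, 4, 2]

theorem ch8a : (∀ a b, a ≠ b → r8 a b < chevE8.nroots) ∧
    ∀ a b, a ≠ b → ∀ k, k ∉ J8 → vec chevE8 8 (r8 a b) k = 0 := by
  decide +kernel

theorem ch8b : ∀ a b, a ≠ b → ∑ i : Fin 8, e8 i * chevE8.cartan i (r8 a b) =
    (if a = 0 then 1 else 0) - (if b = 0 then 1 else 0) := by decide +kernel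

theorem chw8 : ∀ j : Fin 8, Cfsg.Agent.H162.GaussExc.fr chevE8 w8 (chevE8.simple j) = chevE8.neg (chevE8.simple j) := by
  decide +kernel

theorem chk8' : ChkSub chevE8 8 J8 6 r8 := by decide +kernel

theorem rt8 : RTa chevE8 r8 ∧ (RTb chevE8 r8 fun _ _ => -1) ∧ RTc chevE8 r8 ∧
    ∀ i j, i ≠ j → r8 j i = chevE8.neg (r8 i j) := by decide +kernel

/-- the roots of the block of type `A_6` of `E_7` (nodes `0, 2, 3, 4, 5, 6`) -/
def r7 : Fin 7 → Fin 7 → ℕ := ![![0, 93, 94, 95, 96, 97, 98], ![32, 0, 73, 74, 75, 76, 77], ![31, 52, 0, 69, 70, 71, 72],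
  ![30, 51, 56, 0, 66, 67, 68], ![29, 50, 55, 59, 0, 64, 65], ![28, 49, 54, 58, 61, 0, 63],
  ![27, 48, 53, 57, 60, 62, 0]]

/-- the nodes of the block of `E_7` -/
abbrev J7 : List (Fin 7) := [0, 2, 3, 4, 5, 6]

/-- the cocharacter of `E_7` -/
def e7 : Fin 7 → ℤ := ![2, 2, 3, 4, 3, 2, 1]

theorem ch7a : (∀ a b, a ≠ b → r7 a b < chevE7.nroots) ∧
    ∀ a b, a ≠ b → ∀ k, k ∉ J7 → vec chevE7 7 (r7 a b) k = 0 := by
  decide +kernel

theorem ch7b : ∀ a b, a ≠ b → ∑ i : Fin 7, e7 i * chevE7.cartan i (r7 a b) =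
    (if a = 0 then 1 else 0) - (if b = 0 then 1 else 0) := by decide +kernel

theorem chw7 : ∀ j : Fin 7, Cfsg.Agent.H162.GaussExc.fr chevE7 w7 (chevE7.simple j) = chevE7.neg (chevE7.simple j) := by
  decide +kernel

theorem chk7' : ChkSub chevE7 7 J7 5 r7 := by decide +kernel

theorem rt7 : RTa chevE7 r7 ∧ (RTb chevE7 r7 fun _ _ => -1) ∧ RTc chevE7 r7 ∧
    ∀ i j, i ≠ j → r7 j i = chevE7.neg (r7 i j) := by decide +kernel

/-! ### The table of the block from the simple roots -/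

section

variable {D : ChevalleyDatum} {l : ℕ} {M : CoxeterMatrix (Fin l)} (hp : IsType D l M)

include hp in
theorem rep_neg {ω : List (Fin l)}
    (h : ∀ j : Fin l, Cfsg.Agent.H162.GaussExc.fr D ω (D.simple j) = D.neg (D.simple j)) (x : Fin l → ℤ) :
    rep M.toCoxeterSystem hp.isCartan (M.toCoxeterSystem.wordProd ω) x = - x := by
  have key : rep M.toCoxeterSystem hp.isCartan (M.toCoxeterSystem.wordProd ω) = - LinearMap.id := by
    refine LinearMap.pi_ext' fun i => ?_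
    refine LinearMap.ext_ring ?_
    change rep M.toCoxeterSystem hp.isCartan (M.toCoxeterSystem.wordProd ω) (Pi.single i 1) = - (Pi.single i 1)
    have h2 : (Pi.single i 1 : Fin l → ℤ) = vec D l (D.simple i) := (vec_simple hp i).symm
    rw [h2, ← fr_vec hp M.toCoxeterSystem ω (simple_lt hp.inList (lt_rank hp i)), h i,
      vec_neg hp (simple_lt hp.inList (lt_rank hp i))]
  rw [key]
  rfl

include hp in
theorem fr_neg {ω : List (Fin l)}
    (h : ∀ j : Fin l, Cfsg.Agent.H162.GaussExc.fr D ω (D.simple j) = D.neg (D.simple j)) {r : ℕ} (hr : r < D.nroots) :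
    Cfsg.Agent.H162.GaussExc.fr D ω r = D.neg r := by
  refine vec_inj hp (fr_lt hp ω hr) (NPerm.neg_lt hp.inList hr) ?_
  rw [fr_vec hp M.toCoxeterSystem ω hr, rep_neg hp h, vec_neg hp hr]

include hp in
theorem tab_of {J : List (Fin l)} {e : Fin l → ℤ} {ω : List (Fin l)} {n : ℕ} {r : Fin (n + 2) → Fin (n + 2) → ℕ}
    (h1 : (∀ a b, a ≠ b → r a b < D.nroots) ∧ ∀ a b, a ≠ b → ∀ k, k ∉ J → vec D l (r a b) k = 0)
    (h2 : ∀ a b, a ≠ b → ∑ i : Fin l, e i * D.cartan i (r a b) = (if a = 0 then 1 else 0) - (if b = 0 then 1 else 0))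
    (h3 : ∀ j : Fin l, Cfsg.Agent.H162.GaussExc.fr D ω (D.simple j) = D.neg (D.simple j))
    (h4 : ChkSub D l J n r) (h5 : ∀ i j, i ≠ j → r j i = D.neg (r i j)) : TabB D l J e ω n r where
  rlt := h1.1
  rJ := h1.2
  sub := h4
  he := h2
  wb a b hab := by rw [fr_neg hp h3 (h1.1 a b hab), h5 a b hab]

end

theorem tab8 : TabB chevE8 8 J8 e8 w8 6 r8 :=
  tab_of Cfsg.Agent.Nodes.KindE.isType8 ch8a ch8b chw8 chk8' rt8.2.2.2

theorem tab7 : TabB chevE7 7 J7 e7 w7 5 r7 :=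
  tab_of Cfsg.Agent.Nodes.KindE.isType7 ch7a ch7b chw7 chk7' rt7.2.2.2

/-! ### The homomorphisms -/

/-- **`SL_8` in `E_8`.** -/
theorem exists_phi8 (K : Type u) [Field K] :
    ∃ φ : Matrix.SpecialLinearGroup (Fin 8) K →* ↥(chevE8.group K), ∀ a b (hab : a ≠ b) c,
      φ (Matrix.SpecialLinearGroup.transvection hab c) =
        xc Cfsg.Agent.Nodes.KindE.isType8 (vec chevE8 8 (r8 a b)) (((-1 : ℤ) : K) * c) :=
  exists_hom_D Cfsg.Agent.Nodes.KindE.isType8 (K := K) (n := 5) (ε := -1) (by norm_num) rt8.1 rt8.2.1 rt8.2.2.1 rt8.2.2.2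

/-- **`SL_7` in `E_7`.** -/
theorem exists_phi7 (K : Type u) [Field K] :
    ∃ φ : Matrix.SpecialLinearGroup (Fin 7) K →* ↥(chevE7.group K), ∀ a b (hab : a ≠ b) c,
      φ (Matrix.SpecialLinearGroup.transvection hab c) =
        xc Cfsg.Agent.Nodes.KindE.isType7 (vec chevE7 7 (r7 a b)) (((-1 : ℤ) : K) * c) :=
  exists_hom_D Cfsg.Agent.Nodes.KindE.isType7 (K := K) (n := 4) (ε := -1) (by norm_num) rt7.1 rt7.2.1 rt7.2.2.1 rt7.2.2.2

end Cfsg.Agent.H85.Ore
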